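import Mathlib.Algebra.Category.ModuleCat.Sheaf.Colimits
import Mathlib.Algebra.Category.ModuleCat.Presheaf.Generator
import Mathlib.Algebra.Category.ModuleCat.Presheaf.Colimits
import Mathlib.Algebra.Category.ModuleCat.Sheaf.Abelian
import Mathlib.CategoryTheory.Abelian.GrothendieckCategory.Basic
import Mathlib.CategoryTheory.Limits.Constructions.Filtered
import Mathlib.CategoryTheory.Sites.LeftExact
import Mathlib.Algebra.Category.Grp.AB
import Mathlib.CategoryTheory.Abelian.GrothendieckAxioms.Sheaf
import Mathlib.CategoryTheory.Abelian.GrothendieckCategory.EnoughInjectives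
import Groth.Prelude.Def_SiteColimFix

/-!
# Sheaves of modules on a site with hom sets one universe down form a Grothendieck abelian category
-/

set_option autoImplicit false

universe u

open CategoryTheory CategoryTheory.Limits

namespace Groth.Agent.ModGab32

variable {C : Type (u + 1)} [Category.{u} C] {J : GrothendieckTopology C}
  (R : Sheaf J RingCat.{u + 1}) [HasSheafify J AddCommGrpCat.{u + 1}]
  [J.WEqualsLocallyBijective AddCommGrpCat.{u + 1}]

theorem preservesColimitsOfShape_toSheaf (K : Type (u + 1)) [SmallCategory K] :
    PreservesColimitsOfShape K (SheafOfModules.toSheaf.{u + 1} R) where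
  preservesColimit {F} := by
    let L := PresheafOfModules.sheafification.{u + 1} (𝟙 R.obj)
    let adj := PresheafOfModules.sheafificationAdjunction.{u + 1} (𝟙 R.obj)
    have : PreservesColimitsOfShape K L := adj.leftAdjoint_preservesColimits.preservesColimitsOfShape
    have : PreservesColimitsOfShape K
        (presheafToSheaf J AddCommGrpCat.{u + 1}) :=
      (sheafificationAdjunction J AddCommGrpCat.{u + 1}).leftAdjoint_preservesColimits.preservesColimitsOfShape
    let G := F ⋙ SheafOfModules.forget R
    let e : F ≅ G ⋙ L := Functor.isoWhiskerLeft F (asIso adj.counit).symm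
    have h := isColimitOfPreserves L (colimit.isColimit G)
    have h' := isColimitOfPreserves (PresheafOfModules.toPresheaf R.obj ⋙ presheafToSheaf J AddCommGrpCat.{u + 1})
      (colimit.isColimit G)
    exact preservesColimit_of_preserves_colimit_cocone
      ((IsColimit.precomposeHomEquiv e _).symm h)
      (((IsColimit.precomposeHomEquiv
        (Functor.isoWhiskerRight e (SheafOfModules.toSheaf R)) _).symm h').ofIsoColimit
          (Cocone.ext (Iso.refl _) (fun j => by rfl)))

theorem hasExactColimitsOfShape (K : Type (u + 1)) [SmallCategory K] [IsFiltered K] :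
    HasExactColimitsOfShape K (SheafOfModules.{u + 1} R) :=
  haveI := preservesColimitsOfShape_toSheaf R K
  HasExactColimitsOfShape.domain_of_functor K (SheafOfModules.toSheaf.{u + 1} R)

theorem hasSeparator : HasSeparator (SheafOfModules.{u + 1} R) := by
  let adj := PresheafOfModules.sheafificationAdjunction.{u + 1} (𝟙 R.obj)
  let f : C → SheafOfModules.{u + 1} R := fun X =>
    (PresheafOfModules.sheafification.{u + 1} (𝟙 R.obj)).obj
      ((PresheafOfModules.free R.obj).obj (uliftYoneda.{u + 1}.obj X))
  have hf : ObjectProperty.IsSeparating (.ofObj f) := by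
    intro M N φ ψ h
    apply (SheafOfModules.forget R).map_injective
    ext ⟨X⟩ m
    let E := (adj.homEquiv ((PresheafOfModules.free R.obj).obj (uliftYoneda.{u + 1}.obj X)) M).trans
      (PresheafOfModules.freeHomEquiv.trans uliftYonedaEquiv)
    obtain ⟨g, rfl⟩ := E.surjective m
    have h2 := congrArg ((adj.homEquiv _ N).trans (PresheafOfModules.freeHomEquiv.trans uliftYonedaEquiv))
      (h _ ⟨X⟩ g)
    simp only [Equiv.trans_apply] at h2
    exact h2
  exact ⟨_, hf.isSeparator_coproduct⟩

theorem isGrothendieckAbelian : IsGrothendieckAbelian.{u + 1} (SheafOfModules.{u + 1} R) :=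
  { ab5OfSize := ⟨fun K _ _ => hasExactColimitsOfShape R K⟩
    hasSeparator := hasSeparator R }

end Groth.Agent.ModGab32
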